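import Groth.Agent.L03.SurfDual.Basic
import Groth.Agent.L22.PDual.CMVanish
import Groth.Agent.L03.InterLen.Cartier
import Groth.Agent.L04.CMLoc
import Groth.Agent.L22.EnrSev.Basic
import Groth.Agent.L18.AmplePull
import Groth.Agent.L22.Reg.Pn
import Groth.Agent.L22.Nakai.Diag

/-!
# Euler characteristics of twists on a projective surface
-/

set_option autoImplicit false
set_option backward.isDefEq.respectTransparency false
set_option linter.style.haveILetI false
set_option linter.unusedSectionVars false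

universe u

open CategoryTheory CategoryTheory.Limits AlgebraicGeometry TopologicalSpace Opposite

noncomputable section

namespace Groth.L03.SurfDual

open Groth.L22.Inter Groth.L22.Nef Groth.L22.Big Groth.L03.Euler
open Groth.L00.Tensor (tensorIso tensorAssoc tensorComm tensorUnitLeft tensorUnitRight tensorPowAdd)
open Groth.L22.Reg (O')

variable (k : Type u) [Field k] {X : Scheme.{u}} [X.Over (Spec (CommRingCat.of k))]
  [IsProper (X ↘ Spec (CommRingCat.of k))] [IsIntegral X] (hdim : topologicalKrullDim X ≤ (2 : ℕ))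

include hdim

omit hdim in
theorem euler_tensor (A B : X.Modules) : (Curv2.euler k X (CohB1.tensorMod A B) : ℚ) =
    Curv2.euler k X A + Curv2.euler k X B - Curv2.euler k X (Coh.structureModule X) + ii k A B := by
  rw [ii_eq_sub, altT_one, altT_one, euler_iso (tensorUnitLeft B)]
  push_cast
  ring

variable {H H' : X.Modules} (hH : PicF.IsInvertible H) (hH' : PicF.IsInvertible H')
  (eH : CohB1.tensorMod H H' ≅ Coh.structureModule X)

include hH hH' eH

theorem ii_inv (C : X.Modules) (hC : PicF.IsInvertible C) : ii k H' C = - ii k H C := by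
  have h0 : ii k (CohB1.tensorMod H H') C = 0 := (ii_congr k eH C).trans (altT_unit k _)
  rw [ii_tensor k hdim hH hH' hC] at h0
  linarith

theorem euler_negPow (n : ℕ) : (Curv2.euler k X (CohB1.tensorPow H' n) : ℚ) =
    Curv2.euler k X (Coh.structureModule X) +
      n * ((Curv2.euler k X H' : ℚ) - Curv2.euler k X (Coh.structureModule X)) +
      (n : ℚ) * ((n : ℚ) - 1) / 2 * ii k H H := by
  have hh : ii k H' H' = ii k H H := by
    rw [ii_inv k hdim hH hH' eH H' hH', ii_comm, ii_inv k hdim hH hH' eH H hH]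
    ring
  induction n with
  | zero =>
    show (Curv2.euler k X (Coh.structureModule X) : ℚ) = _
    simp
  | succ n ih =>
    show (Curv2.euler k X (CohB1.tensorMod (CohB1.tensorPow H' n) H') : ℚ) = _
    rw [euler_tensor k, ih, ii_pow k hdim hH' hH', hh]
    push_cast
    ring

theorem euler_pow (n : ℕ) : (Curv2.euler k X (CohB1.tensorPow H n) : ℚ) =
    2 * Curv2.euler k X (Coh.structureModule X) + (n : ℚ) ^ 2 * ii k H H -
      Curv2.euler k X (CohB1.tensorPow H' n) := by
  have h := euler_tensor k (CohB1.tensorPow H' n) (CohB1.tensorPow H n)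
  rw [euler_iso (Groth.L22.EnrSev.powInv eH n),
    ii_pow k hdim hH' (Groth.L18.Ample.isInvertible_tensorPow hH n), ii_pow_right k hdim hH' hH,
    ii_inv k hdim hH hH' eH H hH] at h
  linear_combination -h

/-- Twists of a module which is not killed at the generic point grow quadratically. -/
theorem exists_quadratic (hd2 : topologicalKrullDim X = (2 : ℕ)) (hHa : CohB1.IsAmple H) {Q : X.Modules}
    (hQ : Coh.IsCoh Q) (hη : genericPoint ↥X ∈ CohB1.support Q) :
    ∃ a S : ℚ, 0 < a ∧ ∀ n : ℕ, 1 ≤ n →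
      a * (n : ℚ) ^ 2 - S * n ≤ (Curv2.euler k X (CohB1.tensorMod Q (CohB1.tensorPow H n)) : ℚ) := by
  haveI := Groth.L21.RR.isNoetherian_of_proper (X := X) k
  have hsupp : CohB1.support Q = Set.univ := Set.eq_univ_of_forall fun x =>
    (genericPoint_specializes x).mem_closed (Groth.L16.CohSupport.isClosed_support _ hQ.2) hη
  have hd : topologicalKrullDim (CohB1.support Q) = (2 : ℕ) := by
    rw [hsupp, IsHomeomorph.topologicalKrullDim_eq _ (Homeomorph.Set.univ X).isHomeomorph]
    exact hd2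
  obtain ⟨P, hPd, hP⟩ := exists_isHilbPoly (k := k) hH hQ (d := 2) hd.le
  have hc := Groth.L22.Nakai.altT_diag k H hP hPd
  have hpos : 0 < altT k (fun _ : Fin 2 => H) Q :=
    (mixed k (fun _ : Fin 2 => H) (fun _ => H') (fun _ => hHa) (fun _ => ⟨eH⟩) hQ hd.le).2.2 hd
  refine ⟨altT k (fun _ : Fin 2 => H) Q / 2, |P.coeff 0| + |P.coeff 1|, by linarith, fun n hn => ?_⟩
  have hn' : (1 : ℚ) ≤ n := by exact_mod_cast hn
  have e : (Curv2.euler k X (CohB1.tensorMod Q (CohB1.tensorPow H n)) : ℚ) = P.eval (n : ℚ) := hP n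
  rw [e, Polynomial.eval_eq_sum_range' (Nat.lt_succ_of_le hPd), Finset.sum_range_succ,
    Finset.sum_range_succ, Finset.sum_range_one, hc]
  norm_num [Nat.factorial]
  nlinarith [neg_abs_le (P.coeff 0), neg_abs_le (P.coeff 1), abs_nonneg (P.coeff 0), abs_nonneg (P.coeff 1)]

omit hdim hH hH' eH in
/-- The hyperplane module and its inverse. -/
theorem exists_hyperplane {N : ℕ} (ι : X ⟶ CohB1.ProjSpace N k) [IsClosedImmersion ι]
    (hι : ι ≫ CohB1.ProjSpace.toSpec N k = X ↘ Spec (CommRingCat.of k)) (hd2 : topologicalKrullDim X = (2 : ℕ))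
    (hreg : ∀ x : X, IsRegularLocalRing (X.presheaf.stalk x)) :
    ∃ H H' : X.Modules, CohB1.IsAmple H ∧ PicF.IsInvertible H' ∧
      Nonempty (CohB1.tensorMod H H' ≅ Coh.structureModule X) ∧
      ∃ q₀ : ℕ, ∀ q : ℕ, q₀ ≤ q → (Curv2.euler k X (CohB1.tensorPow H' q) : ℚ) =
        (h2 k (CohB1.tensorPow H' q) : ℚ) := by
  haveI := Groth.L21.RR.isNoetherian_of_proper (X := X) k
  obtain ⟨-, hamp⟩ := proj_facts k (hd2.trans Nat.cast_ofNat) ι hι
  let H' := (Scheme.Modules.pullback ι).obj (O' N k (-1))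
  have hH' : PicF.IsInvertible H' :=
    Groth.L18.Ample.isInvertible_pullback ι (Groth.L16.ProjTwist.isInvertible_twistProjSpace N k _)
  obtain ⟨a⟩ := Groth.L22.Reg.nonempty_O_add (n := N) (R := k) (show (1 : ℤ) + -1 = 0 by omega)
  obtain ⟨b⟩ := Groth.L22.Reg.nonempty_O_zero N k
  refine ⟨_, H', hamp, hH', ⟨Groth.L29.DC.PullTensor.pullTensor ι _ _ ≪≫
    (Scheme.Modules.pullback ι).mapIso (a ≪≫ b) ≪≫ Groth.L29.LocFree.pullbackUnitIso ι⟩, ?_⟩
  have hCM : ∀ x : X, IsClosed ({x} : Set X) →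
      LocCoh.IsCohenMacaulayLocalRing (X.presheaf.stalk x) ∧ ringKrullDim (X.presheaf.stalk x) = (2 : ℕ) := by
    refine fun x hx => ⟨(haveI := hreg x; Groth.L04.isCohenMacaulayLocalRing_of_regular _),
      Groth.L03.InterLen.ringKrullDim_stalk_closed k (fun Z hZ => ?_) hx⟩
    rw [irreducibleComponents_eq_singleton, Set.mem_singleton_iff] at hZ
    subst hZ
    rw [IsHomeomorph.topologicalKrullDim_eq _ (Homeomorph.Set.univ X).isHomeomorph]
    exact hd2
  obtain ⟨q₀, hq₀⟩ := (Groth.L22.PDual.cm_iff_vanish ι 2 hd2).1 hCM _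
    (Groth.L20.ResDescent.isFinLocFree_of_isInvertible (Groth.L18.Ample.isInvertible_structureModule X))
  refine ⟨q₀, fun q hq => ?_⟩
  obtain ⟨c⟩ := Groth.L22.Reg.nonempty_O_pow (n := N) (R := k) q
  let e : CohB1.tensorMod (Coh.structureModule X) ((Scheme.Modules.pullback ι).obj (O' N k (-(q : ℤ)))) ≅
      CohB1.tensorPow H' q :=
    tensorUnitLeft _ ≪≫ (Scheme.Modules.pullback ι).mapIso c.symm ≪≫ Groth.L18.Ample.pullPow ι _ q
  rw [euler_eq_sum (k := k) (N := 3) fun i hi => subsingleton_HH_of_dim hd2.le _ hi,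
    Finset.sum_range_succ, Finset.sum_range_succ, Finset.sum_range_one, ← h2_def]
  haveI h0' : Subsingleton (Coh.HH X (CohB1.tensorPow H' q) 0) :=
    Groth.L22.EnrSev.subsingleton_of_iso e 0 (hq₀ q hq 0 (by omega))
  haveI h1' : Subsingleton (Coh.HH X (CohB1.tensorPow H' q) 1) :=
    Groth.L22.EnrSev.subsingleton_of_iso e 1 (hq₀ q hq 1 (by omega))
  rw [Module.finrank_zero_of_subsingleton (R := k) (M := Coh.HH X (CohB1.tensorPow H' q) 0),
    Module.finrank_zero_of_subsingleton (R := k) (M := Coh.HH X (CohB1.tensorPow H' q) 1)]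
  simp

end Groth.L03.SurfDual
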