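import Groth.Agent.L03.SurfDual.Main
import Groth.Agent.S15517
import Groth.Agent.L22.PDual.LocFreeLow
import Groth.Agent.L00.SheafHom

/-!
# Duality and Riemann–Roch on regular projective surfaces
-/

set_option autoImplicit false
set_option backward.isDefEq.respectTransparency false
set_option linter.style.haveILetI false
set_option linter.unusedSectionVars false

universe u

open CategoryTheory CategoryTheory.Limits AlgebraicGeometry

noncomputable section

namespace Groth.L03.SurfDual

open Groth.L22.Inter Groth.L22.Nef Groth.L22.Big Groth.L03.Euler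
open Groth.L00.Tensor (tensorIso tensorComm tensorUnitLeft tensorUnitRight)

variable (k : Type u) [Field k] {X : Scheme.{u}} [X.Over (Spec (CommRingCat.of k))]
  [IsProper (X ↘ Spec (CommRingCat.of k))] [IsIntegral X]

/-- The numerical properties of a dualizing module of a surface. -/
theorem canonical_of_dualizing (hdim : topologicalKrullDim X = 2)
    (hreg : ∀ x : X, IsRegularLocalRing (X.presheaf.stalk x))
    (hproj : ∃ (n : ℕ) (ι : X ⟶ CohB1.ProjSpace n k), IsClosedImmersion ι ∧
      ι ≫ CohB1.ProjSpace.toSpec n k = (X ↘ (Spec (CommRingCat.of k))))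
    {ω : X.Modules} (t : Coh.HH X ω 2 →ₗ[k] k) (hωcoh : Coh.IsCoh ω) (hωinv : PicF.IsInvertible ω)
    (hdual : ∀ F : X.Modules, Coh.IsCoh F → ∀ ψ : Coh.HH X F 2 →ₗ[k] k,
      ∃! φ : F ⟶ ω, ∀ x : Coh.HH X F 2,
        ψ x = t (Sheaf.H.map ((SheafOfModules.toSheaf X.ringCatSheaf).map φ) 2 x)) :
    (∀ L L' : X.Modules, PicF.IsInvertible L → Nonempty (CohB1.tensorMod L L' ≅ Coh.structureModule X) →
        ∀ i : ℕ, i ≤ 2 → Module.finrank k (Coh.HH X (CohB1.tensorMod ω L') i) =
          Module.finrank k (Coh.HH X L (2 - i))) ∧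
      (∀ i : ℕ, i ≤ 2 → Module.finrank k (Coh.HH X ω i) =
          Module.finrank k (Coh.HH X (Coh.structureModule X) (2 - i))) ∧
      ∀ L : X.Modules, PicF.IsInvertible L → 2 * (Curv2.euler k X L : ℚ) =
        ii k L L - ii k L ω + 2 * (Curv2.euler k X (Coh.structureModule X) : ℚ) := by
  haveI := Groth.L21.RR.isNoetherian_of_proper (X := X) k
  obtain ⟨N, ι, hι, hιk⟩ := hproj
  haveI := hι
  have hd2 : topologicalKrullDim X = (2 : ℕ) := hdim.trans Nat.cast_ofNat.symm
  have hclosed : ∀ x : X, IsClosed ({x} : Set X) →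
      LocCoh.IsCohenMacaulayLocalRing (X.presheaf.stalk x) ∧ ringKrullDim (X.presheaf.stalk x) = (2 : ℕ) := by
    refine fun x hx => ⟨(haveI := hreg x; Groth.L04.isCohenMacaulayLocalRing_of_regular _),
      Groth.L03.InterLen.ringKrullDim_stalk_closed k (fun Z hZ => ?_) hx⟩
    rw [irreducibleComponents_eq_singleton, Set.mem_singleton_iff] at hZ
    subst hZ
    rw [IsHomeomorph.topologicalKrullDim_eq _ (Homeomorph.Set.univ X).isHomeomorph]
    exact hd2
  haveI := Groth.L00.Tensor.grothendieckAbelian_modules X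
  haveI : HasExt.{u} X.Modules := inferInstance
  have flip : ∀ L L' : X.Modules, PicF.IsInvertible L → Nonempty (CohB1.tensorMod L L' ≅ Coh.structureModule X) →
      ∀ i : ℕ, i ≤ 2 → Module.finrank k (Coh.HH X (CohB1.tensorMod ω L') i) =
        Module.finrank k (Coh.HH X L (2 - i)) := by
    rintro L L' hL ⟨e⟩ i hi
    obtain ⟨h1, -⟩ := Groth.Agent.S15517.result k N 2 X ι hιk hd2 hclosed ω hωcoh t hdual L
      (Groth.L18.Ample.isCoh_of_isInvertible hL)
    obtain ⟨e1⟩ := h1 i hi
    have hLf := Groth.L20.ResDescent.isFinLocFree_of_isInvertible hL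
    haveI := Groth.L00.Tensor.dcoh_hasSheafHom L
    haveI := Groth.L17.Duality.hasSheafHom L
    obtain ⟨e2⟩ := Groth.L22.PDual.nonempty_ext_linearEquiv (k := k) L hLf i ω
    obtain ⟨c⟩ := Groth.L22.PDual.nonempty_homMod_invertible e
    let j : (DCoh.sheafHom L).obj ω ≅ CohB1.tensorMod ω L' := (Groth.L22.PDual.homIso L).app ω ≪≫ c.app ω
    rw [← finrank_HH_of_iso j, ← e2.finrank_eq, e1.finrank_eq, Subspace.dual_finrank_eq]
  have flip0 : ∀ i : ℕ, i ≤ 2 → Module.finrank k (Coh.HH X ω i) =
      Module.finrank k (Coh.HH X (Coh.structureModule X) (2 - i)) := fun i hi => by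
    rw [← finrank_HH_of_iso (tensorUnitRight ω),
      flip _ _ (Groth.L18.Ample.isInvertible_structureModule X) ⟨tensorUnitLeft _⟩ i hi]
  refine ⟨flip, flip0, fun L hL => ?_⟩
  obtain ⟨L', hL', ⟨e⟩⟩ := Groth.L08.Cube.exists_inverse hL
  have hvan : ∀ M : X.Modules, ∀ n, 3 ≤ n → Subsingleton (Coh.HH X M n) :=
    fun M n hn => subsingleton_HH_of_dim hd2.le M (by omega)
  have hser : ∀ A B : X.Modules,
      (∀ i : ℕ, i ≤ 2 → Module.finrank k (Coh.HH X A i) = Module.finrank k (Coh.HH X B (2 - i))) →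
      Curv2.euler k X A = Curv2.euler k X B := by
    intro A B h
    rw [euler_eq_sum (hvan A), euler_eq_sum (hvan B)]
    simp only [Finset.sum_range_succ, Finset.sum_range_zero]
    rw [h 0 (by omega), h 1 (by omega), h 2 le_rfl]
    ring
  have key := hser _ L (flip L L' hL ⟨e⟩)
  have key0 := hser ω _ flip0
  have hd := hd2.le
  have hneg : ∀ B : X.Modules, PicF.IsInvertible B → ii k L B = - ii k L' B := fun B hB => by
    rw [ii_inv k hd hL hL' e B hB, neg_neg]
  have h1 := euler_tensor k L' L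
  have h2 := euler_tensor k L' ω
  rw [euler_iso (tensorComm L' L ≪≫ e)] at h1
  rw [euler_iso (tensorComm L' ω), key, key0] at h2
  rw [hneg L hL, hneg ω hωinv]
  linarith

/-- A canonical module: invertible, flipping cohomology of invertible modules, with Riemann–Roch. -/
theorem exists_canonical (hdim : topologicalKrullDim X = 2)
    (hreg : ∀ x : X, IsRegularLocalRing (X.presheaf.stalk x))
    (hproj : ∃ (n : ℕ) (ι : X ⟶ CohB1.ProjSpace n k), IsClosedImmersion ι ∧
      ι ≫ CohB1.ProjSpace.toSpec n k = (X ↘ (Spec (CommRingCat.of k)))) :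
    ∃ ω : X.Modules, PicF.IsInvertible ω ∧
      (∀ L L' : X.Modules, PicF.IsInvertible L → Nonempty (CohB1.tensorMod L L' ≅ Coh.structureModule X) →
        ∀ i : ℕ, i ≤ 2 → Module.finrank k (Coh.HH X (CohB1.tensorMod ω L') i) =
          Module.finrank k (Coh.HH X L (2 - i))) ∧
      (∀ i : ℕ, i ≤ 2 → Module.finrank k (Coh.HH X ω i) =
          Module.finrank k (Coh.HH X (Coh.structureModule X) (2 - i))) ∧
      ∀ L : X.Modules, PicF.IsInvertible L → 2 * (Curv2.euler k X L : ℚ) =
        ii k L L - ii k L ω + 2 * (Curv2.euler k X (Coh.structureModule X) : ℚ) := by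
  obtain ⟨ω, t, hωcoh, hωinv, hdual⟩ := exists_dualizing k hdim hreg hproj
  exact ⟨ω, hωinv, canonical_of_dualizing k hdim hreg hproj t hωcoh hωinv hdual⟩

end Groth.L03.SurfDual
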