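import Groth.Agent.L22.PDual.Hn
import Groth.Agent.L22.PDual.TwistExt
import Groth.Agent.L22.Big.SurfaceMain
import Groth.Agent.L21.RR.Finite
import Groth.Agent.L16.Rees.SmulMod
import Groth.Agent.L17.Strat.Quot
import Groth.Agent.L15.Ref.Normal
import Groth.Agent.L03.RefRegSch
import Groth.Agent.L03.ShStab.RankOneSlope

/-!
# Consequences of representing the dual of second cohomology
-/

set_option autoImplicit false
set_option backward.isDefEq.respectTransparency false
set_option linter.style.haveILetI false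
set_option linter.unusedSectionVars false

universe u

open CategoryTheory CategoryTheory.Limits AlgebraicGeometry TopologicalSpace Opposite

noncomputable section

namespace Groth.L03.SurfDual

open Groth.L16.CohLinear (hmap overLin hmap_comp hmap_id exact_hmap_hmap exact_delta_hmap)
open Groth.L22.Inter Groth.L22.Big Groth.L03.Euler
open Groth.L00.Tensor (tensorIso tensorAssoc tensorComm tensorUnitLeft tensorUnitRight tensorRightF)

variable (k : Type u) [Field k] {X : Scheme.{u}} [X.Over (Spec (CommRingCat.of k))]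
  [IsProper (X ↘ Spec (CommRingCat.of k))] [IsIntegral X] {W : X.Modules}

/-- The universal property of a dualizing module. -/
def Univ (W : X.Modules) (t : Coh.HH X W 2 →ₗ[k] k) : Prop :=
  ∀ F : X.Modules, Coh.IsQCoh F → ∀ ψ : Coh.HH X F 2 →ₗ[k] k,
    ∃! φ : F ⟶ W, ∀ x : Coh.HH X F 2,
      ψ x = t (Sheaf.H.map ((SheafOfModules.toSheaf X.ringCatSheaf).map φ) 2 x)

variable {k} {t : Coh.HH X W 2 →ₗ[k] k} (hU : Univ k W t)

include hU

theorem hom_ext_H2 {G : X.Modules} (hG : Coh.IsQCoh G) {f g : G ⟶ W}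
    (h : ∀ x, t (hmap f 2 x) = t (hmap g 2 x)) : f = g :=
  (hU G hG (t.comp (overLin k (hmap f 2)))).unique (fun x => rfl) fun x => h x

theorem eq_zero_of_subsingleton {G : X.Modules} (hG : Coh.IsQCoh G) (hs : Subsingleton (Coh.HH X G 2))
    (g : G ⟶ W) : g = 0 :=
  hom_ext_H2 hU hG fun x => by rw [Subsingleton.elim x 0]; simp

theorem eq_zero_of_small {G : X.Modules} (hG : Coh.IsCoh G)
    (hd : topologicalKrullDim (CohB1.support G) ≤ (1 : ℕ)) (g : G ⟶ W) : g = 0 :=
  haveI := Groth.L21.RR.isNoetherian_of_proper (X := X) k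
  eq_zero_of_subsingleton hU hG.1 (subsingleton_HH_of_support k hG hd Nat.one_lt_two) g

theorem eq_zero_of_generic (hdim : topologicalKrullDim X ≤ (2 : ℕ)) {G : X.Modules} (hG : Coh.IsCoh G)
    (hη : genericPoint ↥X ∉ CohB1.support G) (g : G ⟶ W) : g = 0 :=
  eq_zero_of_small hU hG (dim_le_of_generic_notMem (Groth.L16.CohSupport.isClosed_support _ hG.2) hη hdim) g

/-- Extension along maps bijective on second cohomology. -/
theorem exists_extend {K H : X.Modules} (hK : Coh.IsQCoh K) (hH : Coh.IsQCoh H) (b : K ⟶ H)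
    (hb : Function.Bijective (hmap b 2)) (g : K ⟶ W) : ∃ g' : H ⟶ W, b ≫ g' = g := by
  let e := LinearEquiv.ofBijective (overLin k (hmap b 2)) hb
  obtain ⟨φ, hφ, -⟩ := hU H hH ((t.comp (overLin k (hmap g 2))).comp e.symm.toLinearMap)
  refine ⟨φ, hom_ext_H2 hU hK fun x => ?_⟩
  rw [hmap_comp]
  refine Eq.trans (hφ (hmap b 2 x)).symm ?_
  exact congrArg (fun y => t (hmap g 2 y)) (e.symm_apply_apply x)

/-- Sections of a twist of a submodule are bounded by second cohomology. -/
theorem h0_le [IsNoetherian X] {M M' N : X.Modules} (hM : PicF.IsInvertible M)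
    (e : CohB1.tensorMod M M' ≅ Coh.structureModule X) (hN : Coh.IsCoh N)
    (J : CohB1.tensorMod N M ⟶ W) [Mono J] :
    h0 k N ≤ h2 k M := by
  haveI := Groth.L22.PDual.isEquivalence_tensorRightF e
  let θ : Coh.HH X N 0 → (M ⟶ W) := fun x =>
    (tensorUnitLeft M).inv ≫ (tensorRightF M).map (Groth.L16.homOfSection N (Groth.L21.RR.e0 N x)) ≫ J
  have hadd : ∀ x y, θ (x + y) = θ x + θ y := fun x y => by
    have h : Groth.L16.homOfSection N (Groth.L21.RR.e0 N (x + y)) =
        Groth.L16.homOfSection N (Groth.L21.RR.e0 N x) + Groth.L16.homOfSection N (Groth.L21.RR.e0 N y) := by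
      refine Groth.L21.RR.hom_ext_one ?_
      rw [Groth.L21.RR.app_homOfSection_one, map_add]
      show _ = (Groth.L16.homOfSection N _).app ⊤ _ + (Groth.L16.homOfSection N _).app ⊤ _
      rw [Groth.L21.RR.app_homOfSection_one, Groth.L21.RR.app_homOfSection_one]
    simp only [θ, h, Functor.map_add, Preadditive.add_comp, Preadditive.comp_add]
  have hsmul : ∀ (c : k) x, θ (c • x) = Formal.smulMod k M c ≫ θ x := fun c x => by
    have h : Groth.L16.homOfSection N (Groth.L21.RR.e0 N (c • x)) =
        Groth.L16.homOfSection N (Groth.L21.RR.e0 N x) ≫ Formal.smulMod k N c := by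
      refine Groth.L21.RR.hom_ext_one ?_
      rw [Groth.L21.RR.app_homOfSection_one, Groth.L21.RR.e0_smul]
      show _ = (Formal.smulMod k N c).app ⊤ ((Groth.L16.homOfSection N _).app ⊤ _)
      rw [Groth.L21.RR.app_homOfSection_one]
      refine Eq.trans ?_ (Groth.L16.Rees.smulModΓ_app N _ ⊤ _).symm
      exact congrArg (fun r : Γ(X, ⊤) => r • _) (Groth.L18.Frame.ro_self (le_rfl : (⊤ : X.Opens) ≤ ⊤) _).symm
    show _ ≫ (tensorRightF M).map _ ≫ J = _
    rw [h, Functor.map_comp, Formal.smulMod, Groth.L17.Strat.tensorRightF_smulModΓ, Category.assoc,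
      Groth.L16.Rees.smulModΓ_naturality]
    refine Eq.trans ?_ (Groth.L16.Rees.smulMod_naturality k (θ x) c).symm
    simp only [θ, Category.assoc]
    rfl
  let Ψ : Coh.HH X N 0 →ₗ[k] Module.Dual k (Coh.HH X M 2) :=
    { toFun := fun x => t.comp (overLin k (hmap (θ x) 2))
      map_add' := fun x y => LinearMap.ext fun z => by
        show t (hmap (θ (x + y)) 2 z) = t (hmap (θ x) 2 z) + t (hmap (θ y) 2 z)
        rw [hadd, Groth.L21.RR.hmap_add, map_add]
      map_smul' := fun c x => LinearMap.ext fun z => by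
        show t (hmap (θ (c • x)) 2 z) = c • t (hmap (θ x) 2 z)
        rw [hsmul, hmap_comp, Groth.L16.Rees.hmap_smulMod]
        exact map_smul (t.comp (overLin k (hmap (θ x) 2))) c z }
  have hinj : Function.Injective Ψ := by
    refine (injective_iff_map_eq_zero Ψ).2 fun x hx => ?_
    have h1 : θ x = 0 := hom_ext_H2 hU (Groth.L18.Ample.isCoh_of_isInvertible hM).1 fun z => by
      rw [Groth.L21.RR.hmap_zero, map_zero]
      exact LinearMap.congr_fun hx z
    have h2 : Groth.L16.homOfSection N (Groth.L21.RR.e0 N x) = 0 := by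
      refine (tensorRightF M).map_injective ?_
      rw [Functor.map_zero, ← cancel_epi (tensorUnitLeft M).inv, ← cancel_mono J, Category.assoc, comp_zero,
        zero_comp]
      exact h1
    refine (Groth.L21.RR.e0 N).injective ?_
    rw [map_zero, ← Groth.L21.RR.app_homOfSection_one (Groth.L21.RR.e0 N x), h2]
    rfl
  haveI := Groth.L16.ProperFinite.finite_HH k (Groth.L18.Ample.isCoh_of_isInvertible hM) 2
  rw [h0_def, h2_def, ← Subspace.dual_finrank_eq (K := k) (V := Coh.HH X M 2)]
  exact LinearMap.finrank_le_finrank_of_injective hinj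

/-- A coherent submodule of rank one lies in an invertible one. -/
theorem exists_hull (hdim : topologicalKrullDim X = (2 : ℕ))
    (hreg : ∀ x : X, IsRegularLocalRing (X.presheaf.stalk x)) {K : X.Modules} (hK : Coh.IsCoh K)
    (g : K ⟶ W) [Mono g] (u : K.presheaf.stalk (genericPoint ↥X)) (hu0 : u ≠ 0)
    (hu : Submodule.span (X.presheaf.stalk (genericPoint ↥X)) {u} = ⊤) :
    ∃ (H : X.Modules) (b : K ⟶ H) (g' : H ⟶ W), PicF.IsInvertible H ∧ Mono b ∧ b ≫ g' = g := by
  haveI := Groth.L21.RR.isNoetherian_of_proper (X := X) k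
  haveI := Groth.L15.Ref.isQCoh_structureModule (X := X)
  haveI : Coh.IsQCoh K := hK.1
  let η := genericPoint ↥X
  let b := RefHull.bidualMap K
  have hD : Coh.IsCoh (RefHull.ddual K) := Groth.L15.Ref.isCoh_dual (Groth.L15.Ref.isCoh_dual hK)
  haveI : Coh.IsQCoh (RefHull.ddual K) := hD.1
  have hDr := Groth.L15.Ref.isReflexive_ddual hK
  have hDtf := Groth.L15.Ref.isTorsionFree_stalk hD hDr
  have hinjη := Groth.L15.Ref.bidual_eta_injective hK
  have hsurjη : Function.Surjective (RefHull.stalkMapₗ b η) := by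
    letI : Field (X.presheaf.stalk η) := (inferInstance : Field X.functionField)
    haveI := Groth.L15.Ref.finite_stalk hK η
    haveI : Module.IsReflexive (X.presheaf.stalk η) (K.presheaf.stalk η) := inferInstance
    have hbij := (Groth.L15.Ref.bidualAt_bijective_iff hK η).2 this
    rw [← Groth.L15.Ref.stalkMapₗ_bidual] at hbij
    intro s
    obtain ⟨v, hv⟩ := hbij.2 (RefHull.evalStalk (RefHull.dual K) (Coh.structureModule X) η s)
    exact ⟨v, (Groth.L15.Ref.evalStalk_bijective (RefHull.dual K) (Coh.structureModule X)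
      (Groth.L15.Ref.isCoh_dual hK) η).1 hv⟩
  obtain ⟨hker, -, hcok⟩ := Groth.L03.ShStab.Basic.coh_parts k hK hD b
  have hkη : η ∉ CohB1.support (kernel b) := by
    intro hmem
    refine hmem ⟨fun v w => ?_⟩
    have h0 : ∀ v : (kernel b).presheaf.stalk η, RefHull.stalkMapₗ (kernel.ι b) η v = 0 := fun v => hinjη (by
      rw [map_zero]
      refine Eq.trans ?_ (Groth.L03.ShStab.Rank2.stalkMapₗ_zero (A := kernel b) (B := RefHull.ddual K) η v)
      rw [← kernel.condition b, Groth.L15.Ref.stalkMapₗ_comp]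
      rfl)
    exact (Groth.L21.Mod.mono_iff_stalk_injective (kernel.ι b)).1 inferInstance η ((h0 v).trans (h0 w).symm)
  haveI : Mono b := Preadditive.mono_of_kernel_zero
    (zero_of_comp_mono g (eq_zero_of_generic hU hdim.le hker hkη (kernel.ι b ≫ g)))
  have hspan : Submodule.span (X.presheaf.stalk η) {RefHull.stalkMapₗ b η u} = ⊤ := by
    rw [← Set.image_singleton, ← Submodule.map_span, hu, Submodule.map_top, LinearMap.range_eq_top]
    exact hsurjη
  have hgen := Groth.L03.ShStab.Rank2.genInvertible_of_eta hD hDtf _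
    (fun h => hu0 (hinjη (h.trans (map_zero _).symm))) hspan
  have hHinv := Groth.L03.RefRegSch.isInvertible_of_rank_one hreg hD hDr hgen
  have hS : (ShortComplex.mk b (cokernel.π b) (cokernel.condition b)).ShortExact :=
    { exact := ShortComplex.exact_cokernel b }
  have hQs : Groth.L21.RR.SuppClosed (cokernel b) := fun z hz => by
    haveI := hS.epi_g
    refine ⟨fun v w => ?_⟩
    obtain ⟨a, c, ha, hc, hac⟩ := Groth.L22.SchemeDim.exists_localDim k X z
    obtain ⟨a', ha', htr⟩ := Groth.L22.SchemeDim.exists_dim_closure_eq_trdeg k X z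
    obtain ⟨m, hm, -, hopen⟩ := Groth.L22.SchemeDim.exists_dim_eq_trdeg k X
    have hm2 : 2 = m := by exact_mod_cast hdim.symm.trans hm
    have hl : FlatMor.localDim X z = ((2 : ℕ) : WithBot ℕ∞) := by
      refine le_antisymm ?_ (le_iInf fun U => ?_)
      · refine iInf_le_of_le ⟨⊤, trivial⟩ ?_
        rw [hm2, ← hopen ⊤ ⟨z, trivial⟩]
        exact le_rfl
      · rw [hm2, ← hopen U.1 ⟨z, U.2⟩]
        exact le_rfl
    rw [hl] at hac
    have haa : a = a' := by exact_mod_cast ha.symm.trans htr
    have hac' : 2 = a + c := by exact_mod_cast hac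
    have ha1 : 1 ≤ a := Nat.one_le_iff_ne_zero.2 fun h0 => hz (isClosed_of_closure_subset fun y hy => by
      have hd0 : topologicalKrullDim (closure ({z} : Set X)) = ((0 : ℕ) : WithBot ℕ∞) := by rw [ha', ← haa, h0]
      have hyd : topologicalKrullDim (closure ({y} : Set X)) = ((0 : ℕ) : WithBot ℕ∞) := by
        obtain ⟨d, hd, -⟩ := Groth.L22.SchemeDim.exists_dim_closure_eq_trdeg k X y
        have h : (d : WithBot ℕ∞) ≤ ((0 : ℕ) : WithBot ℕ∞) := hd ▸ hd0 ▸
          topologicalKrullDim_set_mono (closure_minimal (Set.singleton_subset_iff.2 hy) isClosed_closure)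
        rw [hd]
        exact congrArg _ (Nat.le_zero.1 (by exact_mod_cast h))
      exact Set.mem_singleton_iff.2 (eq_of_specializes_top isClosed_closure hd0.le hyd
        (subset_closure rfl) (specializes_iff_mem_closure.2 hy)).symm)
    have hsurj : Function.Surjective (RefHull.stalkMapₗ b z) := by
      rcases Nat.eq_zero_or_pos c with h0 | h0
      · have hzη : z = η := by
          have h1 : Order.coheight z = 0 := by
            have h2 := (ringKrullDim_stalk_eq_coheight z).symm.trans hc
            rw [h0, Nat.cast_zero] at h2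
            exact_mod_cast h2
          have h3 : η ⤳ z := genericPoint_specializes z
          have h4 : z ⤳ η := Order.coheight_eq_zero.1 h1 h3
          exact (Inseparable.eq (h4.antisymm h3))
        subst hzη
        exact hsurjη
      · haveI := hreg z
        haveI := Groth.L03.ShStab.RankOneSlope.isDVR (R := X.presheaf.stalk z)
          (by rw [hc, show c = 1 by omega, Nat.cast_one])
        exact Groth.L15.Ref.bidual_surjective_of_dvr hK z
    suffices ∀ s : (cokernel b).presheaf.stalk z, s = 0 by rw [this v, this w]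
    intro s
    obtain ⟨v', rfl⟩ := (Groth.L21.Mod.epi_iff_stalk_surjective (cokernel.π b)).1 inferInstance z s
    obtain ⟨w', rfl⟩ := hsurj v'
    refine Eq.trans ?_ (Groth.L03.ShStab.Rank2.stalkMapₗ_zero (A := K) (B := cokernel b) _ w')
    rw [← cokernel.condition b, Groth.L15.Ref.stalkMapₗ_comp]
    rfl
  have hbij : Function.Bijective (hmap b 2) := by
    have h1 := Groth.L21.RR.subsingleton_HH_of_suppClosed hQs 0
    have h2 := Groth.L21.RR.subsingleton_HH_of_suppClosed hQs 1
    refine ⟨fun x y hxy => ?_, fun y => (exact_hmap_hmap hS 2 y).1 (Subsingleton.elim _ _)⟩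
    obtain ⟨z, hz⟩ := (exact_delta_hmap hS 1 (x - y)).1 (by rw [map_sub]; exact sub_eq_zero.2 hxy)
    rw [Subsingleton.elim z 0, map_zero] at hz
    exact sub_eq_zero.1 hz.symm
  obtain ⟨g', hg'⟩ := exists_extend hU hK.1 hD.1 b hbij g
  exact ⟨_, b, g', hHinv, inferInstance, hg'⟩

end Groth.L03.SurfDual
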