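import Mathlib.CategoryTheory.Limits.Constructions.Filtered
import Mathlib.CategoryTheory.Limits.Preserves.Shapes.Products
import Mathlib.CategoryTheory.Limits.Preserves.Finite
import Mathlib.CategoryTheory.Limits.Preserves.Filtered
import Mathlib.CategoryTheory.Limits.Constructions.LimitsOfProductsAndEqualizers

/-!
# A functor preserving finite and filtered colimits preserves colimits
-/

set_option autoImplicit false

universe w v v' u u'

open CategoryTheory CategoryTheory.Limits CategoryTheory.Limits.CoproductsFromFiniteFiltered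

noncomputable section

namespace Groth.L03.SurfDual

variable {C : Type u} [Category.{v} C] {D : Type u'} [Category.{v'} D] (G : C ⥤ D)
  [HasFiniteColimits C] [HasColimitsOfSize.{w, w} C] [PreservesFiniteColimits G]
  (hG : ∀ (J : Type w) [SmallCategory J] [IsFiltered J], PreservesColimitsOfShape J G)

include hG in
theorem preservesColimit_cofan {α : Type w} (f : α → C) : PreservesColimit (Discrete.functor f) G := by
  classical
  haveI := hG (Finset (Discrete α))
  have hfin := isColimitOfPreserves G (isColimitFiniteSubproductsCocone f)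
  refine preservesColimit_of_preserves_colimit_cocone (coproductIsCoproduct f) ?_
  let inner (S : Finset (Discrete α)) := isColimitOfPreserves G (coproductIsCoproduct fun x : S => f x.1.as)
  let sub (s : Cocone (Discrete.functor f ⋙ G)) : Cocone (liftToFinsetObj (Discrete.functor f) ⋙ G) :=
    { pt := s.pt
      ι :=
        { app := fun S => (inner S).desc ⟨s.pt, Discrete.natTrans fun x => s.ι.app ⟨x.as.1.as⟩⟩
          naturality := fun S T h => by
            refine (inner S).hom_ext fun x => ?_
            have k1 : G.map (Sigma.ι (fun y : S => f y.1.as) x.as) ≫ G.map ((liftToFinsetObj (Discrete.functor f)).map h) =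
                G.map (Sigma.ι (fun y : T => f y.1.as) ⟨x.as.1, h.down.down x.as.2⟩) :=
              (G.map_comp _ _).symm.trans (congrArg G.map (Sigma.ι_desc _ _))
            refine (Category.assoc _ _ _).symm.trans (Eq.trans (congrArg (· ≫ _) k1) ?_)
            refine ((inner T).fac _ ⟨⟨x.as.1, h.down.down x.as.2⟩⟩).trans ?_
            refine Eq.trans ?_ (congrArg (fun q => _ ≫ q) (Category.comp_id _).symm)
            exact ((inner S).fac ⟨s.pt, Discrete.natTrans fun x => s.ι.app ⟨x.as.1.as⟩⟩ x).symm } }
  have kι : ∀ (S : Finset (Discrete α)) (x : S),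
      G.map (Sigma.ι (fun y : S => f y.1.as) x) ≫ G.map ((finiteSubcoproductsCocone f).ι.app S) = G.map (Sigma.ι f x.1.as) :=
    fun S x => (G.map_comp _ _).symm.trans (congrArg G.map (Sigma.ι_desc _ _))
  refine
    { desc := fun s => hfin.desc (sub s)
      fac := fun s j => ?_
      uniq := fun s m hm => hfin.hom_ext fun S => ?_ }
  · obtain ⟨a⟩ := j
    let x : ({⟨a⟩} : Finset (Discrete α)) := ⟨⟨a⟩, Finset.mem_singleton_self _⟩
    show G.map (Sigma.ι f a) ≫ _ = _
    refine Eq.trans (congrArg (· ≫ _) (kι {⟨a⟩} x).symm) ?_
    refine (Category.assoc _ _ _).trans ?_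
    refine (congrArg (fun q => _ ≫ q) (hfin.fac (sub s) {⟨a⟩})).trans ?_
    exact (inner {⟨a⟩}).fac _ ⟨x⟩
  · refine Eq.trans ?_ (hfin.fac (sub s) S).symm
    refine (inner S).hom_ext fun x => ?_
    refine Eq.trans ?_ ((inner S).fac ⟨s.pt, Discrete.natTrans fun x => s.ι.app ⟨x.as.1.as⟩⟩ x).symm
    refine (Category.assoc _ _ _).symm.trans ?_
    refine (congrArg (· ≫ m) (kι S x.as)).trans ?_
    exact hm ⟨x.as.1.as⟩

include hG in
theorem preservesColimits : PreservesColimitsOfSize.{w, w} G := by
  haveI : ∀ α : Type w, PreservesColimitsOfShape (Discrete α) G := fun α => ⟨fun {K} =>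
    haveI : PreservesColimit (Discrete.functor (K.obj ∘ Discrete.mk)) G := preservesColimit_cofan G hG (fun a => K.obj ⟨a⟩)
    preservesColimit_of_iso_diagram G (Discrete.natIsoFunctor (F := K)).symm⟩
  exact preservesColimits_of_preservesCoequalizers_and_coproducts G

end Groth.L03.SurfDual
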