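import Groth.Agent.L17.QCohGab.Groth
import Groth.Agent.L03.SurfDual.CoprodFilt
import Groth.Agent.L09.CohColim.Opens
import Groth.Agent.L09.CohColim.Functors
import Groth.Agent.L22.Inter.Fga
import Groth.Agent.L16.CohLinear
import Groth.Agent.L21.RR.Coh
import Groth.Agent.L15.KFlatSite.ToSheafColim
import Mathlib.Algebra.Category.ModuleCat.Limits
import Mathlib.Algebra.Category.ModuleCat.Colimits

/-!
# Representability of the dual of top cohomology on quasi-coherent modules
-/

set_option autoImplicit false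
set_option backward.isDefEq.respectTransparency false
set_option linter.style.haveILetI false

universe u

open CategoryTheory CategoryTheory.Limits AlgebraicGeometry TopologicalSpace Opposite ToposFin Groth.L09.Topos

noncomputable section

namespace Groth.L03.SurfDual

open Groth.L16.CohLinear (hmap overLin hmap_comp hmap_id exact_hmap_hmap exact_hmap_delta)

variable {X : Scheme.{u}}

theorem preservesColimitsOfShape_functorH [IsNoetherian X] (n : ℕ) (Λ : Type u) [SmallCategory Λ] [IsFiltered Λ] :
    PreservesColimitsOfShape Λ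
      (Sheaf.functorH (Opens.grothendieckTopology X) n :
        Sheaf (Opens.grothendieckTopology X) AddCommGrpCat.{u} ⥤ AddCommGrpCat.{u}) := by
  have hT : IsTerminal (eps (Opens.grothendieckTopology X) (⊤ : X.Opens)) :=
    IsTerminal.isTerminalObj (presheafToSheaf _ (Type u)) _
      (IsTerminal.isTerminalObj yoneda _ (Preorder.isTerminalTop X.Opens))
  exact Groth.L09.CohColim.preservesColimitsOfShape_of_commutes _ n fun D c hc =>
    (Groth.L09.CohColim.commutes_HK Groth.L09.CohColim.goodSet_qcqs
      ⟨(⊤ : X.Opens), isCompact_univ, isQuasiSeparated_univ, ⟨Iso.refl _⟩⟩ n D c hc).of_iso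
      (Groth.L09.CohColim.constIso hT)

variable (k : Type u) [Field k] [X.Over (Spec (CommRingCat.of k))]

/-- Cohomology of quasi-coherent modules as vector spaces. -/
def cohFunctor (n : ℕ) : QCohCat.QCoh X ⥤ ModuleCat.{u} k where
  obj F := ModuleCat.of k (Coh.HH X F.obj n)
  map f := ModuleCat.ofHom (overLin k (hmap f.hom n))
  map_id F := ModuleCat.hom_ext (LinearMap.ext fun x => hmap_id n x)
  map_comp f g := ModuleCat.hom_ext (LinearMap.ext fun x => hmap_comp f.hom g.hom n x)

instance (n : ℕ) : (cohFunctor (X := X) k n).Additive where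
  map_add {_ _} {f g} := ModuleCat.hom_ext (LinearMap.ext fun x => Groth.L21.RR.hmap_add f.hom g.hom n x)

theorem preservesFiltered [IsNoetherian X] (n : ℕ) (Λ : Type u) [SmallCategory Λ] [IsFiltered Λ] :
    PreservesColimitsOfShape Λ (cohFunctor (X := X) k n) := by
  haveI := preservesColimitsOfShape_functorH (X := X) n Λ
  haveI : PreservesColimitsOfSize.{u, u} (SheafOfModules.toSheaf X.ringCatSheaf) :=
    Groth.L15.KFlatSite.preservesColimits_toSheaf X.ringCatSheaf
  haveI : PreservesColimitsOfShape Λ (cohFunctor (X := X) k n ⋙ forget₂ (ModuleCat.{u} k) AddCommGrpCat.{u}) :=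
    preservesColimitsOfShape_of_natIso
      (show ((QCohCat.isQCoh X).ι ⋙ SheafOfModules.toSheaf X.ringCatSheaf) ⋙ Sheaf.functorH (Opens.grothendieckTopology X) n ≅
          cohFunctor (X := X) k n ⋙ forget₂ (ModuleCat.{u} k) AddCommGrpCat.{u} from
        NatIso.ofComponents (fun F => Iso.refl _) fun f => by rfl)
  exact preservesColimitsOfShape_of_reflects_of_preserves (cohFunctor (X := X) k n) (forget₂ (ModuleCat.{u} k) AddCommGrpCat.{u})

theorem preservesFinite [IsNoetherian X] {d : ℕ} (hd : topologicalKrullDim X ≤ d) :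
    PreservesFiniteColimits (cohFunctor (X := X) k d) := by
  refine ((Functor.preservesFiniteColimits_tfae (cohFunctor (X := X) k d)).out 0 3).1 fun S hS => ?_
  have hS' : (S.map (QCohCat.isQCoh X).ι).ShortExact := hS.map_of_exact _
  refine ⟨(ShortComplex.ShortExact.moduleCat_exact_iff_function_exact _).2 (exact_hmap_hmap hS' d),
    (ModuleCat.epi_iff_surjective _).2 fun y => ?_⟩
  exact (exact_hmap_delta hS' d y).1
    (@Subsingleton.elim _ (Groth.L22.Inter.subsingleton_HH_of_dim hd _ (Nat.lt_succ_self d)) _ _)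

theorem exists_representing [IsNoetherian X] {d : ℕ} (hd : topologicalKrullDim X ≤ d) :
    ∃ ω : X.Modules, Coh.IsQCoh ω ∧ ∃ t : Coh.HH X ω d →ₗ[k] k,
      ∀ F : X.Modules, Coh.IsQCoh F → ∀ ψ : Coh.HH X F d →ₗ[k] k,
        ∃! φ : F ⟶ ω, ∀ x : Coh.HH X F d,
          ψ x = t (Sheaf.H.map ((SheafOfModules.toSheaf X.ringCatSheaf).map φ) d x) := by
  haveI := preservesFinite (X := X) k hd
  haveI := preservesColimits (cohFunctor (X := X) k d) (fun J _ _ => preservesFiltered k d J)
  haveI := Groth.L17.QCohGab.isLeftAdjoint_of_preservesColimits X (cohFunctor (X := X) k d)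
  let adj := Adjunction.ofIsLeftAdjoint (cohFunctor (X := X) k d)
  let ω := (cohFunctor (X := X) k d).rightAdjoint.obj (ModuleCat.of k k)
  refine ⟨ω.obj, ω.property, (adj.counit.app (ModuleCat.of k k)).hom, fun F hF ψ => ?_⟩
  let F' : QCohCat.QCoh X := ⟨F, hF⟩
  let b := adj.homEquiv F' (ModuleCat.of k k)
  have key : ∀ a : F' ⟶ ω, ∀ x, (b.symm a).hom x =
      (adj.counit.app (ModuleCat.of k k)).hom (Sheaf.H.map ((SheafOfModules.toSheaf X.ringCatSheaf).map a.hom) d x) := by
    intro a x
    show (b.symm a).hom x = _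
    rw [Adjunction.homEquiv_counit]
    rfl
  refine ⟨(b (ModuleCat.ofHom ψ)).hom, fun x => ?_, fun φ hφ => ?_⟩
  · refine Eq.trans ?_ (key _ x)
    rw [Equiv.symm_apply_apply]
    rfl
  · refine congrArg (fun a : F' ⟶ ω => a.hom) (b.symm.injective (?_ : b.symm (ObjectProperty.homMk φ) = b.symm (b (ModuleCat.ofHom ψ))))
    rw [Equiv.symm_apply_apply]
    refine ModuleCat.hom_ext (LinearMap.ext fun x => ?_)
    exact (key (ObjectProperty.homMk φ) x).trans (hφ x).symm

end Groth.L03.SurfDual
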