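import Groth.Agent.L03.SurfDual.Numeric
import Groth.Agent.L03.SurfDual.Repr
import Groth.Agent.L19.FPExtend.Ops
import Groth.Agent.L16.Existence.AmpleVanish
import Groth.Agent.L17.Strat.GenBase
import Groth.Agent.L19.LimMod.Zero
import Mathlib.AlgebraicGeometry.Morphisms.Proper

/-!
# A regular projective surface has an invertible dualizing module
-/

set_option autoImplicit false
set_option backward.isDefEq.respectTransparency false
set_option linter.style.haveILetI false
set_option linter.unusedSectionVars false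

universe u

open CategoryTheory CategoryTheory.Limits AlgebraicGeometry TopologicalSpace Opposite

noncomputable section

namespace Groth.L03.SurfDual

open Groth.L16.CohLinear (hmap overLin)
open Groth.L22.Inter Groth.L22.Nef Groth.L22.Big Groth.L03.Euler
open Groth.L00.Tensor (tensorIso tensorAssoc tensorComm tensorUnitLeft tensorUnitRight tensorRightF)

variable (k : Type u) [Field k] {X : Scheme.{u}} [X.Over (Spec (CommRingCat.of k))]
  [IsProper (X ↘ Spec (CommRingCat.of k))] [IsIntegral X]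

include k in
theorem isIso_endo {s : Coh.structureModule X ⟶ Coh.structureModule X} (hs : s ≠ 0) : IsIso s := by
  have hF := isField_of_universallyClosed k (X ↘ Spec (CommRingCat.of k))
  have hne : ∃ f : Γ(X, ⊤), f = s.app ⊤ (Groth.L21.RR.oneSec X) ∧ f ≠ 0 :=
    ⟨_, rfl, fun h0 => hs (Groth.L21.RR.hom_ext_one (h0.trans rfl))⟩
  obtain ⟨f, hf, hf0⟩ := hne
  obtain ⟨g, hg⟩ := hF.mul_inv_cancel hf0
  let r : Coh.structureModule X ⟶ Coh.structureModule X :=
    Groth.L16.homOfSection (Coh.structureModule X) (show Γ(X, ⊤) from g)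
  have happ : ∀ a : Γ(X, ⊤), r.app ⊤ a = a * g := fun a => by
    refine (Groth.L16.homOfSection_app _ _ ⊤ _).trans ?_
    exact congrArg (fun z : Γ(X, ⊤) => a * z) (Groth.L18.Frame.rs_self (Coh.structureModule X) le_rfl _)
  have h1 : s ≫ r = 𝟙 _ := Groth.L21.RR.hom_ext_one (by
    show r.app ⊤ (s.app ⊤ (Groth.L21.RR.oneSec X)) = Groth.L21.RR.oneSec X
    rw [← hf, happ, hg]
    rfl)
  have hlin : ∀ a : Γ(X, ⊤), s.app ⊤ a = a * f := fun a => by
    have h := Scheme.Modules.Hom.app_smul s (U := ⊤) a (Groth.L21.RR.oneSec X)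
    rw [← hf] at h
    refine Eq.trans ?_ h
    exact congrArg (fun z => s.app ⊤ z) (mul_one a).symm
  have h2 : r ≫ s = 𝟙 _ := Groth.L21.RR.hom_ext_one (by
    show s.app ⊤ (r.app ⊤ (1 : Γ(X, ⊤))) = (1 : Γ(X, ⊤))
    rw [happ, hlin, one_mul, mul_comm, hg])
  exact ⟨r, h1, h2⟩

variable {k} {W : X.Modules} {t : Coh.HH X W 2 →ₗ[k] k} (hU : Univ k W t) (hW : Coh.IsQCoh W)
  (hdim : topologicalKrullDim X = (2 : ℕ))

include hU hW hdim

theorem mono_to {L : X.Modules} (hL : PicF.IsInvertible L) {φ : L ⟶ W} (hφ : φ ≠ 0) : Mono φ := by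
  haveI := Groth.L21.RR.isNoetherian_of_proper (X := X) k
  haveI := hW
  let η := genericPoint ↥X
  refine Groth.L22.Nakai.mono_of_injective hL φ
    (show Function.Injective (Groth.L21.RR.st φ η) from ?_)
  letI : Field (X.presheaf.stalk η) := (inferInstance : Field X.functionField)
  obtain ⟨e, he⟩ := Groth.L21.RR.exists_frame_stalk hL η
  by_cases h0 : Groth.L21.RR.st φ η e = 0
  · exfalso
    have himg : η ∉ CohB1.support (Abelian.image φ) := fun hmem => hmem ⟨fun v w => by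
      have hz : ∀ v : (Abelian.image φ).presheaf.stalk η, v = 0 := fun v => by
        obtain ⟨a, rfl⟩ := (Groth.L21.Mod.epi_iff_stalk_surjective (Abelian.factorThruImage φ)).1 inferInstance η v
        obtain ⟨c, rfl⟩ := he.2 a
        refine (Groth.L21.Mod.mono_iff_stalk_injective (Abelian.image.ι φ)).1 inferInstance η ?_
        refine Eq.trans ?_ (map_zero (RefHull.stalkMapₗ (Abelian.image.ι φ) η)).symm
        refine Eq.trans (?_ : _ = RefHull.stalkMapₗ φ η (c • e)) ?_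
        · rw [← congrArg (fun q => RefHull.stalkMapₗ q η (c • e)) (Abelian.image.fac φ),
            Groth.L15.Ref.stalkMapₗ_comp]
          rfl
        · rw [map_smul]
          rw [show RefHull.stalkMapₗ φ η e = 0 from h0, smul_zero]
      rw [hz v, hz w]⟩
    refine hφ ?_
    rw [← Abelian.image.fac φ, eq_zero_of_generic hU hdim.le
      (Groth.L16.CohSupport.isCoh_image (Groth.L18.Ample.isCoh_of_isInvertible hL) φ) himg (Abelian.image.ι φ),
      comp_zero]
  · intro a b hab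
    obtain ⟨c, rfl⟩ := he.2 a
    obtain ⟨d, rfl⟩ := he.2 b
    change Groth.L21.RR.st φ η (c • e) = Groth.L21.RR.st φ η (d • e) at hab
    rw [map_smul, map_smul] at hab
    have : (c - d) • Groth.L21.RR.st φ η e = 0 := by rw [sub_smul, hab, sub_self]
    rcases smul_eq_zero.1 this with h | h
    · exact congrArg (· • e) (sub_eq_zero.1 h)
    · exact absurd h h0

variable {H H' : X.Modules} (hHa : CohB1.IsAmple H) (hH' : PicF.IsInvertible H')
  (eH : CohB1.tensorMod H H' ≅ Coh.structureModule X) {q₀ : ℕ}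
  (hq₀ : ∀ q : ℕ, q₀ ≤ q → (Curv2.euler k X (CohB1.tensorPow H' q) : ℚ) = (h2 k (CohB1.tensorPow H' q) : ℚ))

include hHa hH' eH hq₀

/-- The main estimate. -/
theorem est {K : X.Modules} (hK : Coh.IsCoh K) (g : K ⟶ W) [Mono g] {n : ℕ} (hn : q₀ ≤ n)
    (hs : Subsingleton (Coh.HH X (CohB1.tensorMod K (CohB1.tensorPow H n)) 2)) :
    (Curv2.euler k X (CohB1.tensorMod K (CohB1.tensorPow H n)) : ℚ) ≤
      (Curv2.euler k X (CohB1.tensorPow H' n) : ℚ) := by
  haveI := Groth.L21.RR.isNoetherian_of_proper (X := X) k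
  have hH := hHa.1
  have hPn := Groth.L18.Ample.isInvertible_tensorPow hH n
  have hP'n := Groth.L18.Ample.isInvertible_tensorPow hH' n
  have hKn := isCoh_tensor hPn hK
  let J : CohB1.tensorMod (CohB1.tensorMod K (CohB1.tensorPow H n)) (CohB1.tensorPow H' n) ⟶ W :=
    (tensorAssoc _ _ _ ≪≫ tensorIso (Iso.refl K) (tensorComm _ _ ≪≫ Groth.L22.EnrSev.powInv eH n) ≪≫
      tensorUnitRight K).hom ≫ g
  have h := h0_le hU hP'n (Groth.L22.EnrSev.powInv eH n) hKn J
  have h' : (h0 k (CohB1.tensorMod K (CohB1.tensorPow H n)) : ℚ) ≤ (h2 k (CohB1.tensorPow H' n) : ℚ) := by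
    exact_mod_cast h
  show (Curv2.euler k X _ : ℚ) ≤ _
  rw [← hq₀ n hn] at h'
  refine le_trans ?_ h'
  rw [euler_eq_sum (k := k) (N := 3) fun i hi => subsingleton_HH_of_dim hdim.le _ hi,
    Finset.sum_range_succ, Finset.sum_range_succ, Finset.sum_range_one, ← h0_def]
  haveI := hs
  rw [Module.finrank_zero_of_subsingleton (R := k) (M := Coh.HH X (CohB1.tensorMod K (CohB1.tensorPow H n)) 2)]
  simp

omit hU hW hq₀ in
theorem line (n : ℕ) : (Curv2.euler k X (CohB1.tensorPow H' n) : ℚ) - Curv2.euler k X (CohB1.tensorPow H n) =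
    n * (2 * ((Curv2.euler k X H' : ℚ) - Curv2.euler k X (Coh.structureModule X)) - ii k H H) := by
  have hH := hHa.1
  rw [euler_pow k hdim.le hH hH' eH, euler_negPow k hdim.le hH hH' eH]
  ring

theorem exists_first : ∃ (n₁ : ℕ) (φ : CohB1.tensorPow H' n₁ ⟶ W), φ ≠ 0 := by
  haveI := Groth.L21.RR.isNoetherian_of_proper (X := X) k
  have hH := hHa.1
  have hHH := ii_ample_pos k hdim.le hdim hHa
  let c : ℚ := (Curv2.euler k X H' : ℚ) - Curv2.euler k X (Coh.structureModule X)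
  let χ : X.Modules → ℚ := fun F => (Curv2.euler k X F : ℚ)
  -- a first invertible submodule
  obtain ⟨n₁, hn₁⟩ := exists_nat_gt
    (2 * (|c| + |(Curv2.euler k X (Coh.structureModule X) : ℚ)| + 1) / ii k H H + 2 + q₀)
  have hpos : 0 < χ (CohB1.tensorPow H' n₁) := by
    show (0 : ℚ) < Curv2.euler k X _
    rw [euler_negPow k hdim.le hH hH' eH]
    set X₀ := (Curv2.euler k X (Coh.structureModule X) : ℚ)
    have hd0 : 0 ≤ 2 * (|c| + |X₀| + 1) / ii k H H := by positivity
    have hq : (0 : ℚ) ≤ q₀ := q₀.cast_nonneg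
    have h2' : (2 : ℚ) ≤ n₁ := by linarith
    have h3 : 2 * (|c| + |X₀| + 1) < ii k H H * ((n₁ : ℚ) - 1) :=
      (div_lt_iff₀' hHH).1 (by linarith)
    show 0 < X₀ + n₁ * c + n₁ * ((n₁ : ℚ) - 1) / 2 * ii k H H
    have h5 := mul_lt_mul_of_pos_left h3 (show (0 : ℚ) < n₁ by linarith)
    nlinarith [neg_abs_le c, neg_abs_le X₀, abs_nonneg X₀, abs_nonneg c,
      mul_le_mul_of_nonneg_left (neg_abs_le c) (show (0 : ℚ) ≤ n₁ by linarith),
      mul_le_mul_of_nonneg_right h2' (abs_nonneg X₀)]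
  have hq1 : q₀ ≤ n₁ := by
    have : (q₀ : ℚ) ≤ n₁ := by
      have : 0 ≤ 2 * (|c| + |(Curv2.euler k X (Coh.structureModule X) : ℚ)| + 1) / ii k H H := by positivity
      linarith
    exact_mod_cast this
  let L₀ := CohB1.tensorPow H' n₁
  have hL₀ := Groth.L18.Ample.isInvertible_tensorPow hH' n₁
  refine ⟨n₁, (?_ : ∃ φ : L₀ ⟶ W, φ ≠ 0)⟩
  have hf : 0 < Module.finrank k (Coh.HH X L₀ 2) := by
    have := hq₀ n₁ hq1
    simp only [χ] at hpos
    rw [this, h2_def] at hpos
    exact_mod_cast hpos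
  haveI := Groth.L16.ProperFinite.finite_HH k (Groth.L18.Ample.isCoh_of_isInvertible hL₀) 2
  rw [← Subspace.dual_finrank_eq, Module.finrank_pos_iff] at hf
  obtain ⟨ψ, hψ⟩ := exists_ne (0 : Module.Dual k (Coh.HH X L₀ 2))
  obtain ⟨φ, hφ, -⟩ := hU L₀ (Groth.L18.Ample.isCoh_of_isInvertible hL₀).1 ψ
  refine ⟨φ, fun h => hψ (LinearMap.ext fun x => ?_)⟩
  rw [hφ x, h]
  show t (hmap (0 : L₀ ⟶ W) 2 x) = 0
  rw [Groth.L21.RR.hmap_zero, map_zero]

theorem bound {L₀ L : X.Modules} (hL₀ : PicF.IsInvertible L₀) (hL : PicF.IsInvertible L) (j : L ⟶ W) [Mono j]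
    {i : L₀ ⟶ L} (hi : i ≠ 0) :
    (FGA.intNum k X 2 ![L, H] (Coh.structureModule X) : ℚ) ≤
      2 * ((Curv2.euler k X H' : ℚ) - Curv2.euler k X (Coh.structureModule X)) - ii k H H := by
  haveI := Groth.L21.RR.isNoetherian_of_proper (X := X) k
  have hH := hHa.1
  let c : ℚ := (Curv2.euler k X H' : ℚ) - Curv2.euler k X (Coh.structureModule X)
  obtain ⟨d₀, hd₀⟩ := Groth.L16.Existence.exists_vanishing_of_isAmple (A := k) hHa (Groth.L18.Ample.isCoh_of_isInvertible hL₀)
  show _ ≤ 2 * c - ii k H H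
  rw [intNum_eq_ii k hdim.le]
  by_contra hlt
  rw [not_le] at hlt
  obtain ⟨n, hn⟩ := exists_nat_gt
    (|(Curv2.euler k X L : ℚ) - Curv2.euler k X (Coh.structureModule X)| / (ii k L H - (2 * c - ii k H H)) + q₀ + d₀)
  have hδ : 0 < ii k L H - (2 * c - ii k H H) := by linarith
  have hd' : 0 ≤ |(Curv2.euler k X L : ℚ) - Curv2.euler k X (Coh.structureModule X)| /
      (ii k L H - (2 * c - ii k H H)) := by positivity
  have hn0 : q₀ ≤ n ∧ d₀ ≤ n := by
    have h1 : (q₀ : ℚ) ≤ n := by linarith [d₀.cast_nonneg (α := ℚ)]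
    have h2 : (d₀ : ℚ) ≤ n := by linarith [q₀.cast_nonneg (α := ℚ)]
    exact ⟨by exact_mod_cast h1, by exact_mod_cast h2⟩
  have hPn := Groth.L18.Ample.isInvertible_tensorPow hH n
  have hs : Subsingleton (Coh.HH X (CohB1.tensorMod L (CohB1.tensorPow H n)) 2) := by
    obtain ⟨P', -, ⟨eP⟩⟩ := Groth.L08.Cube.exists_inverse hPn
    haveI := Groth.L22.PDual.isEquivalence_tensorRightF eP
    have hne : (tensorRightF (CohB1.tensorPow H n)).map i ≠ 0 := fun h =>
      hi ((tensorRightF (CohB1.tensorPow H n)).map_injective (h.trans (Functor.map_zero _ _ _).symm))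
    have hsurj := Groth.L22.PDual.surjective_hmap_top (X := X) k hdim
      (Groth.L18.GenLoc.isInvertible_tensor hL₀ hPn) (Groth.L18.GenLoc.isInvertible_tensor hL hPn) hne
    have hsub : Subsingleton (Coh.HH X ((tensorRightF (CohB1.tensorPow H n)).obj L₀) 2) :=
      Groth.L22.EnrSev.subsingleton_of_iso (tensorComm _ _) 2 (hd₀ n hn0.2 2 (by omega))
    exact ⟨fun u v => by
      obtain ⟨u', rfl⟩ := hsurj u
      obtain ⟨v', rfl⟩ := hsurj v
      exact congrArg _ (@Subsingleton.elim _ hsub u' v')⟩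
  have h := est hU hW hdim hHa hH' eH hq₀ (Groth.L18.Ample.isCoh_of_isInvertible hL) j hn0.1 hs
  have h' := line (k := k) hdim hHa hH' eH n
  rw [euler_tensor k, ii_pow_right k hdim.le hL hH] at h
  have hn' : |(Curv2.euler k X L : ℚ) - Curv2.euler k X (Coh.structureModule X)| /
      (ii k L H - (2 * c - ii k H H)) < n := by linarith [q₀.cast_nonneg (α := ℚ), d₀.cast_nonneg (α := ℚ)]
  rw [div_lt_iff₀ hδ] at hn'
  nlinarith [neg_abs_le ((Curv2.euler k X L : ℚ) - Curv2.euler k X (Coh.structureModule X))]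

/-- The maximal invertible submodule has generic rank one in any coherent one. -/
theorem notMem_generic {L : X.Modules} (hL : PicF.IsInvertible L)
    {K : X.Modules} (hK : Coh.IsCoh K) (γ : K ⟶ W) [Mono γ] (a : L ⟶ K) [Mono a] :
    genericPoint ↥X ∉ CohB1.support (cokernel a) := by
  haveI := Groth.L21.RR.isNoetherian_of_proper (X := X) k
  have hH := hHa.1
  let c : ℚ := (Curv2.euler k X H' : ℚ) - Curv2.euler k X (Coh.structureModule X)
  have hLc := Groth.L18.Ample.isCoh_of_isInvertible hL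
  have hS : (ShortComplex.mk a (cokernel.π a) (cokernel.condition a)).ShortExact :=
    { exact := ShortComplex.exact_cokernel a }
  haveI : Coh.IsQCoh K := hK.1
  have hQ : Coh.IsCoh (cokernel a) := (Groth.L16.CohKernel.isCoh_kernel_cokernel hLc hK a).2
  intro hη
  obtain ⟨α, β, hα, hαβ⟩ := exists_quadratic k hdim.le hH hH' eH hdim hHa hQ hη
  obtain ⟨d₁, hd₁⟩ := Groth.L16.Existence.exists_vanishing_of_isAmple (A := k) hHa hK
  set γ' : ℚ := |(Curv2.euler k X L : ℚ) - Curv2.euler k X (Coh.structureModule X)| + |β| +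
    |ii k L H| + |2 * c - ii k H H|
  obtain ⟨n, hn⟩ := exists_nat_gt (γ' / α + q₀ + d₁ + 1)
  have hγ : 0 ≤ γ' / α := by positivity
  have hn0 : q₀ ≤ n ∧ d₁ ≤ n ∧ 1 ≤ n := by
    have h1 : (q₀ : ℚ) ≤ n := by linarith [d₁.cast_nonneg (α := ℚ)]
    have h2 : (d₁ : ℚ) ≤ n := by linarith [q₀.cast_nonneg (α := ℚ)]
    have h3 : (1 : ℚ) ≤ n := by linarith [q₀.cast_nonneg (α := ℚ), d₁.cast_nonneg (α := ℚ)]
    exact ⟨by exact_mod_cast h1, by exact_mod_cast h2, by exact_mod_cast h3⟩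
  have h := est hU hW hdim hHa hH' eH hq₀ hK γ hn0.1 (Groth.L22.EnrSev.subsingleton_of_iso (tensorComm _ _) 2
    (hd₁ n hn0.2.1 2 (by omega)))
  have hPn := Groth.L18.Ample.isInvertible_tensorPow hH n
  have hadd := euler_add (k := k) (shortExact_tensor hPn hS) (isCoh_tensor hPn hLc) (isCoh_tensor hPn hK)
    (isCoh_tensor hPn hQ)
  have hadd' : (Curv2.euler k X (CohB1.tensorMod K (CohB1.tensorPow H n)) : ℚ) =
      Curv2.euler k X (CohB1.tensorMod L (CohB1.tensorPow H n)) +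
        Curv2.euler k X (CohB1.tensorMod (cokernel a) (CohB1.tensorPow H n)) := by exact_mod_cast hadd
  have h' := line (k := k) hdim hHa hH' eH n
  rw [hadd', euler_tensor k, ii_pow_right k hdim.le hL hH] at h
  have hq := hαβ n hn0.2.2
  have hn1 : (1 : ℚ) ≤ n := by exact_mod_cast hn0.2.2
  have hn' : γ' < α * n := (div_lt_iff₀' hα).1 (by linarith [q₀.cast_nonneg (α := ℚ), d₁.cast_nonneg (α := ℚ)])
  have h6 := mul_lt_mul_of_pos_right hn' (show (0 : ℚ) < n by linarith)
  have p1 := mul_le_mul_of_nonneg_right (le_abs_self β) (show (0 : ℚ) ≤ n by linarith)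
  have p2 := mul_le_mul_of_nonneg_right (neg_abs_le (ii k L H)) (show (0 : ℚ) ≤ n by linarith)
  have p3 := mul_le_mul_of_nonneg_right (le_abs_self (2 * c - ii k H H)) (show (0 : ℚ) ≤ n by linarith)
  have p4 := mul_le_mul_of_nonneg_left hn1
    (abs_nonneg ((Curv2.euler k X L : ℚ) - Curv2.euler k X (Coh.structureModule X)))
  have p5 := neg_abs_le ((Curv2.euler k X L : ℚ) - Curv2.euler k X (Coh.structureModule X))
  simp only [γ', c] at h6 p3
  linarith

/-- A coherent submodule containing a maximal invertible one equals it. -/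
theorem surjective_of_max (hreg : ∀ x : X, IsRegularLocalRing (X.presheaf.stalk x))
    {L₀ L : X.Modules} (hL : PicF.IsInvertible L) (j : L ⟶ W) [Mono j] {i : L₀ ⟶ L} (hi : i ≠ 0)
    (hmax : ∀ (L' : X.Modules) (j' : L' ⟶ W) (i' : L₀ ⟶ L'), PicF.IsInvertible L' → Mono j' → i' ≠ 0 →
      FGA.intNum k X 2 ![L', H] (Coh.structureModule X) ≤ FGA.intNum k X 2 ![L, H] (Coh.structureModule X))
    {K : X.Modules} (hK : Coh.IsCoh K) (γ : K ⟶ W) [Mono γ] (a : L ⟶ K) (ha : a ≫ γ = j) :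
    ∀ y : X, Function.Surjective (RefHull.stalkMapₗ a y) := by
  haveI := Groth.L21.RR.isNoetherian_of_proper (X := X) k
  have hH := hHa.1
  let c : ℚ := (Curv2.euler k X H' : ℚ) - Curv2.euler k X (Coh.structureModule X)
  have hLc := Groth.L18.Ample.isCoh_of_isInvertible hL
  haveI : Mono a := mono_of_mono_fac ha
  -- generic rank one
  have hS : (ShortComplex.mk a (cokernel.π a) (cokernel.condition a)).ShortExact :=
    { exact := ShortComplex.exact_cokernel a }
  haveI : Coh.IsQCoh K := hK.1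
  have hQ : Coh.IsCoh (cokernel a) := (Groth.L16.CohKernel.isCoh_kernel_cokernel hLc hK a).2
  let η := genericPoint ↥X
  have hQη := notMem_generic hU hW hdim hHa hH' eH hq₀ hL hK γ a
  have haη : Function.Surjective (RefHull.stalkMapₗ a η) := fun b =>
    (ShortComplex.ab_exact_iff _).1 (hS.map_of_exact (Groth.L21.Mod.stalkF X η)).exact b
      (@Subsingleton.elim _ (not_not.1 hQη) _ _)
  obtain ⟨e, he⟩ := Groth.L21.RR.exists_frame_stalk hL η
  have hu0 : RefHull.stalkMapₗ a η e ≠ 0 := by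
    haveI : Nontrivial (X.presheaf.stalk η) := inferInstance
    intro h
    have h1 : e = 0 := (Groth.L21.Mod.mono_iff_stalk_injective a).1 inferInstance η (h.trans (map_zero _).symm)
    exact one_ne_zero (he.1 (show (1 : X.presheaf.stalk η) • e = (0 : X.presheaf.stalk η) • e by
      rw [h1, smul_zero, smul_zero]))
  obtain ⟨L', b, g', hL', hb, hbg⟩ := exists_hull hU hdim hreg hK γ _ hu0 (eq_top_iff.2 fun z _ => by
    obtain ⟨z', rfl⟩ := haη z
    obtain ⟨d, rfl⟩ := he.2 z'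
    exact Submodule.mem_span_singleton.2 ⟨d, (map_smul _ d e).symm⟩)
  haveI := hb
  -- maximality
  have hjne : j ≠ 0 := fun h => hu0 (by
    have h1 : RefHull.stalkMapₗ γ η (RefHull.stalkMapₗ a η e) = 0 := by
      refine Eq.trans ?_ (Groth.L03.ShStab.Rank2.stalkMapₗ_zero (A := L) (B := W) η e)
      rw [← h, ← ha, Groth.L15.Ref.stalkMapₗ_comp]
      rfl
    exact (Groth.L21.Mod.mono_iff_stalk_injective γ).1 inferInstance η (h1.trans (map_zero _).symm))
  have hg' : g' ≠ 0 := fun h => hjne (by rw [← ha, ← hbg, h, comp_zero, comp_zero])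
  let s' : L ⟶ L' := a ≫ b
  have hi' : i ≫ s' ≠ 0 := fun h => hi ((cancel_mono j).1 (by
    rw [zero_comp, ← ha, ← hbg, ← Category.assoc a, ← Category.assoc i, h, zero_comp]))
  haveI := mono_to hU hW hdim hL' hg'
  have hle := hmax L' g' (i ≫ s') hL' inferInstance hi'
  obtain ⟨M, hM, ⟨eM⟩⟩ := Groth.L08.Cube.exists_inverse hL
  haveI := Groth.L22.PDual.isEquivalence_tensorRightF (tensorComm M L ≪≫ eM)
  have hs'ne : s' ≠ 0 := fun h => hi' (by rw [h, comp_zero])
  have hT : (tensorRightF M).map s' ≠ 0 := by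
    intro h
    apply hs'ne
    apply (tensorRightF M).map_injective
    rw [h, Functor.map_zero]
  obtain ⟨s, hs⟩ : ∃ s : Coh.structureModule X ⟶ CohB1.tensorMod L' M, s = eM.inv ≫ (tensorRightF M).map s' :=
    ⟨_, rfl⟩
  have hsne : s ≠ 0 := by
    intro h
    apply hT
    have h1 : eM.hom ≫ s = eM.hom ≫ 0 := congrArg (fun q => eM.hom ≫ q) h
    rw [hs, Iso.hom_inv_id_assoc, comp_zero] at h1
    exact h1
  have hNinv := Groth.L18.GenLoc.isInvertible_tensor hL' hM
  obtain ⟨τ⟩ : Nonempty (Coh.structureModule X ≅ CohB1.tensorMod L' M) := by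
    by_contra hne
    have h := ii_effective_pos k hdim.le hdim hNinv hHa s hsne (not_nonempty_iff.1 hne)
    rw [ii_tensor k hdim.le hL' hM hH] at h
    have h0 : ii k (CohB1.tensorMod L M) H = 0 := (ii_congr k eM H).trans (altT_unit k _)
    rw [ii_tensor k hdim.le hL hM hH] at h0
    have hle' : (FGA.intNum k X 2 ![L', H] (Coh.structureModule X) : ℚ) ≤
        (FGA.intNum k X 2 ![L, H] (Coh.structureModule X) : ℚ) := by exact_mod_cast hle
    rw [intNum_eq_ii k hdim.le, intNum_eq_ii k hdim.le] at hle'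
    linarith
  haveI : IsIso (s ≫ τ.inv) := isIso_endo k fun h => hsne ((cancel_mono τ.inv).1 (h.trans zero_comp.symm))
  haveI : IsIso s := IsIso.of_isIso_comp_right s τ.inv
  haveI : IsIso (eM.inv ≫ (tensorRightF M).map s') := hs ▸ ‹IsIso s›
  haveI : IsIso ((tensorRightF M).map s') := IsIso.of_isIso_comp_left eM.inv _
  haveI : IsIso s' := isIso_of_reflects_iso s' (tensorRightF M)
  haveI : Epi (a ≫ b) := inferInstanceAs (Epi s')
  haveI : Epi b := epi_of_epi a b
  haveI : IsIso b := isIso_of_mono_of_epi b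
  haveI : IsIso a := IsIso.of_isIso_comp_right a b
  exact fun y => (Groth.L21.Mod.epi_iff_stalk_surjective a).1 inferInstance y

omit hHa hH' eH hq₀ in
theorem isInvertible_dualizing (hreg : ∀ x : X, IsRegularLocalRing (X.presheaf.stalk x)) {N : ℕ}
    (ι : X ⟶ CohB1.ProjSpace N k) [IsClosedImmersion ι]
    (hι : ι ≫ CohB1.ProjSpace.toSpec N k = X ↘ Spec (CommRingCat.of k)) :
    PicF.IsInvertible W := by
  classical
  haveI := Groth.L21.RR.isNoetherian_of_proper (X := X) k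
  haveI := hW
  obtain ⟨H, H', hHa, hH', ⟨eH⟩, q₀, hq₀⟩ := exists_hyperplane k ι hι hdim hreg
  obtain ⟨n₁, φ₀, hφ₀⟩ := exists_first hU hW hdim hHa hH' eH hq₀
  have hL₀ := Groth.L18.Ample.isInvertible_tensorPow hH' n₁
  haveI := mono_to hU hW hdim hL₀ hφ₀
  let S : ℤ → Prop := fun z => ∃ (L : X.Modules) (j : L ⟶ W) (i : CohB1.tensorPow H' n₁ ⟶ L),
    PicF.IsInvertible L ∧ Mono j ∧ i ≠ 0 ∧ FGA.intNum k X 2 ![L, H] (Coh.structureModule X) = z
  have hne₀ : ∃ z, S z := ⟨_, _, φ₀, 𝟙 _, hL₀, inferInstance,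
    fun h => hφ₀ (by rw [← Category.id_comp φ₀, h, zero_comp]), rfl⟩
  have hbd : ∃ b, ∀ z, S z → z ≤ b := ⟨⌊2 * ((Curv2.euler k X H' : ℚ) - Curv2.euler k X (Coh.structureModule X)) - ii k H H⌋, by
    rintro z ⟨L, j, i, hL, hj, hi, rfl⟩
    haveI := hj
    exact Int.le_floor.2 (bound hU hW hdim hHa hH' eH hq₀ hL₀ hL j hi)⟩
  obtain ⟨zmax, ⟨L, j, i, hL, hj, hi, hz⟩, hmax⟩ := Int.exists_greatest_of_bdd hbd hne₀
  haveI := hj
  have hLc := Groth.L18.Ample.isCoh_of_isInvertible hL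
  suffices Epi j by
    haveI := isIso_of_mono_of_epi j
    exact Groth.L18.Ample.isInvertible_of_iso (asIso j) hL
  refine (Groth.L21.Mod.epi_iff_stalk_surjective j).2 fun x v => ?_
  obtain ⟨V₀, hxV₀, v₀, rfl⟩ := TopCat.Presheaf.exists_germ_eq W.presheaf v
  obtain ⟨V, hV, hxV, hVV⟩ := exists_isAffineOpen_mem_and_subset hxV₀
  rw [← W.presheaf.germ_res_apply (homOfLE (show V ≤ V₀ from hVV)) x hxV v₀]
  generalize W.presheaf.map (homOfLE (show V ≤ V₀ from hVV)).op v₀ = w
  obtain ⟨P, f, hP, p, hp⟩ := Groth.L19.FPExtend.exists_fp_hit W V hV.isCompact w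
  haveI hPq := Groth.L17.Strat.isQCoh_of_isFP P hP
  have hPc : Coh.IsCoh P := ⟨hPq, Groth.L19.LimMod.isFT_of_isFP hP⟩
  have hPLc : Coh.IsCoh (L ⊞ P) := Groth.L16.Devissage.isCoh_biprod hLc hPc
  let g := biprod.desc j f
  let K := Abelian.image g
  have hK : Coh.IsCoh K := Groth.L16.CohSupport.isCoh_image hPLc g
  let γ := Abelian.image.ι g
  let a : L ⟶ K := biprod.inl ≫ Abelian.factorThruImage g
  have ha : a ≫ γ = j := by rw [Category.assoc, Abelian.image.fac, biprod.inl_desc]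
  haveI : Mono a := mono_of_mono_fac ha
  obtain ⟨b', hb'⟩ := surjective_of_max hU hW hdim hHa hH' eH hq₀ hreg hL j hi
    (fun L' j' i' h1 h2 h3 => hz ▸ hmax _ ⟨L', j', i', h1, h2, h3, rfl⟩) hK γ a ha x
    (RefHull.stalkMapₗ (biprod.inr ≫ Abelian.factorThruImage g) x (P.presheaf.germ V x hxV p))
  refine ⟨b', ?_⟩
  show RefHull.stalkMapₗ j x b' = W.presheaf.germ V x hxV w
  rw [← ha, Groth.L15.Ref.stalkMapₗ_comp, LinearMap.comp_apply, hb', ← LinearMap.comp_apply,
    ← Groth.L15.Ref.stalkMapₗ_comp, Category.assoc, Abelian.image.fac, biprod.inr_desc,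
    RefHull.stalkMapₗ_germ, hp]

end Groth.L03.SurfDual

namespace Groth.L03.SurfDual

open Groth.L22.Inter Groth.L22.Nef Groth.L22.Big Groth.L03.Euler

/-- A regular projective surface has an invertible dualizing module. -/
theorem exists_dualizing (k : Type u) [Field k] {X : Scheme.{u}} [X.Over (Spec (CommRingCat.of k))] [IsIntegral X]
    (hdim : topologicalKrullDim X = 2) (hreg : ∀ x : X, IsRegularLocalRing (X.presheaf.stalk x))
    (hproj : ∃ (n : ℕ) (ι : X ⟶ CohB1.ProjSpace n k), IsClosedImmersion ι ∧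
      ι ≫ CohB1.ProjSpace.toSpec n k = (X ↘ (Spec (CommRingCat.of k)))) :
    ∃ (ω : X.Modules) (t : Coh.HH X ω 2 →ₗ[k] k), Coh.IsCoh ω ∧ PicF.IsInvertible ω ∧
      ∀ F : X.Modules, Coh.IsCoh F → ∀ ψ : Coh.HH X F 2 →ₗ[k] k,
        ∃! φ : F ⟶ ω, ∀ x : Coh.HH X F 2,
          ψ x = t (Sheaf.H.map ((SheafOfModules.toSheaf X.ringCatSheaf).map φ) 2 x) := by
  obtain ⟨N, ι, hι, hιk⟩ := hproj
  haveI := hι
  obtain ⟨hp, -⟩ := proj_facts k hdim ι hιk
  haveI := hp
  haveI := Groth.L21.RR.isNoetherian_of_proper (X := X) k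
  have hd2 : topologicalKrullDim X = (2 : ℕ) := hdim.trans Nat.cast_ofNat.symm
  obtain ⟨W, hW, t, hU⟩ := exists_representing k hd2.le
  have hinv := isInvertible_dualizing hU hW hd2 hreg ι hιk
  exact ⟨W, t, Groth.L18.Ample.isCoh_of_isInvertible hinv, hinv, fun F hF => hU F hF.1⟩

end Groth.L03.SurfDual
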